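import Mathlib
import Cfsg.Agent.Helper9.HSO.Data

set_option autoImplicit false

/-! Kernel checks of the certificates. -/

noncomputable section

namespace Cfsg.Agent.Helper9.HSO

open Cfsg.Agent.Helper9.OutG Cfsg.Agent.Helper9.J3

set_option maxRecDepth 1000000 in
theorem tab_b : allB (tabChk dD) dD.K = true := by decide +kernel

set_option maxRecDepth 1000000 in
theorem dw_b : allB (dwChk dD) dD.K = true := by decide +kernel

set_option maxRecDepth 1000000 in
theorem chain_b : chainChk dD dC.bs [] dC.wss = true := by decide +kernel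

set_option maxRecDepth 1000000 in
theorem plen_b : prodLen dC.wss = 44352000 := by decide +kernel

/-- the verified core. -/
theorem core : Core dD dC 44352000 :=
  ⟨fun _ hk => allB_true tab_b hk, fun _ hk => allB_true dw_b hk, chain_b, plen_b⟩

set_option maxRecDepth 1000000 in
theorem gen_hab : allB (fun k => orB (ltB k dE.M) (abW dD dE k (dwOf dD k))) dD.K = true := by decide +kernel

set_option maxRecDepth 1000000 in
theorem gen_hlw : allB (fun l => andB (abW dD dE dD.K (nthW dE.lw l)) (allB (fun x => Nat.beq (T dD l x) (evalT dD (nthW dE.lw l) x)) dD.n)) dD.L = true := by decide +kernel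

set_option maxRecDepth 1000000 in
theorem gen_hpw : allB (fun i => allB (fun x => Nat.beq (T dD dE.iA (pwT dD dE i x)) (pwT dD dE (Nat.mod (Nat.succ i) dE.p) x)) dD.n) dE.p = true := by decide +kernel

set_option maxRecDepth 1000000 in
theorem gen_hp0 : allB (fun x => Nat.beq (pwT dD dE 0 x) x) dD.n = true := by decide +kernel

set_option maxRecDepth 1000000 in
theorem gen_hmv : andB (ltB dE.mv dD.n) (notB (Nat.beq (T dD dE.iA dE.mv) dE.mv)) = true := by decide +kernel

set_option maxRecDepth 1000000 in
theorem gen_hnm : allB (fun x => Nat.beq (T dD dE.iN (T dD dE.iA x)) (pwT dD dE (Nat.mod dE.r dE.p) (T dD dE.iN x))) dD.n = true := by decide +kernel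

theorem genOK : GenOK dD dE :=
  { hLM := by decide, hab := gen_hab, hlw := gen_hlw, hpw := gen_hpw, hp0 := gen_hp0, hmv := gen_hmv, hnm := gen_hnm }

set_option maxRecDepth 1000000 in
theorem syl_hrel : allB (sylRelChk dD dC dS) dS.k = true := by decide +kernel

set_option maxRecDepth 1000000 in
theorem syl_hch : chainChk dD dS.sC.bs [] dS.sC.wss = true := by decide +kernel

set_option maxRecDepth 1000000 in
theorem syl_hpl : prodLen dS.sC.wss = 2 ^ dS.k := by decide +kernel

set_option maxRecDepth 1000000 in
theorem syl_hlt : memWss dS.tI dS.sC.wss = true := by decide +kernel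

set_option maxRecDepth 1000000 in
theorem syl_hcm : allB (fun j => agreeL dC.bs (fun x => tF dD dS 0 (tF dD dS j x)) (fun x => tF dD dS j (tF dD dS 0 x))) dS.k = true := by decide +kernel

set_option maxRecDepth 1000000 in
theorem syl_hmv : notB (allB (fun x => Nat.beq (tF dD dS 0 x) x) dD.n) = true := by decide +kernel

set_option maxRecDepth 1000000 in
theorem syl_wit : allB (witChk dD dS) 512 = true := by decide +kernel

theorem syl_hwit : ∀ e, e < 2 ^ dS.k → witChk dD dS e = true := by
  intro e he
  have h2 : (2 : ℕ) ^ dS.k = 512 := by decide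
  rw [h2] at he
  exact allB_true syl_wit he

theorem sylOK : SylOK dD dC 44352000 dS :=
  { hrel := syl_hrel, hodd := by decide, hch := syl_hch, hpl := syl_hpl, hlt := syl_hlt, hcm := syl_hcm,
    hmv := syl_hmv, hk := by decide, hwit := syl_hwit }

set_option maxRecDepth 1000000 in
theorem cls_hclo_b : allB (cloChk dD dC dE dCl) 5775 = true := by decide +kernel

theorem cls_hclo : ∀ v, v < dCl.R * dE.p → cloChk dD dC dE dCl v = true := by
  intro v hv
  have h2 : dCl.R * dE.p = 5775 := by decide
  rw [h2] at hv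
  exact allB_true cls_hclo_b hv

set_option maxRecDepth 1000000 in
theorem cls_hb : andB (ltB dCl.bI dE.p) (andB (ltB dCl.bJ dCl.R) (agreeL dC.bs (T dD dE.iB) (crF dD dE dCl dCl.bI dCl.bJ))) = true := by decide +kernel

set_option maxRecDepth 1000000 in
theorem cls_hb2 : allB (fun x => Nat.beq (T dD dE.iB (T dD dE.iB x)) x) dD.n = true := by decide +kernel

theorem clsOK : ClsOK dD dC dE dCl := { hclo := cls_hclo, hb := cls_hb, hb2 := cls_hb2 }

set_option maxRecDepth 1000000 in
theorem tst_hrels : relsOK dD dE dTs.rels = true := by decide +kernel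

set_option maxRecDepth 1000000 in
theorem tst_htst_b : allB (testChk dD dC dE dCl dTs) 1050 = true := by decide +kernel

theorem tst_htst : ∀ v, v < dTs.K0.length * dCl.R → testChk dD dC dE dCl dTs v = true := by
  intro v hv
  have h2 : dTs.K0.length * dCl.R = 1050 := by decide
  rw [h2] at hv
  exact allB_true tst_htst_b hv

theorem tstOK : TstOK dD dC dE dCl dTs := { hrels := tst_hrels, htst := tst_htst }

set_option maxRecDepth 1000000 in
theorem tau_hperm : allB (fun x => andB (ltB (xF dD dX x) dD.n) (andB (ltB (xG dD dX x) dD.n) (andB (Nat.beq (xG dD dX (xF dD dX x)) x) (Nat.beq (xF dD dX (xG dD dX x)) x)))) dD.n = true := by decide +kernel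

set_option maxRecDepth 1000000 in
theorem tau_hlx : allB (fun l => allB (fun x => Nat.beq (xF dD dX (T dD l x)) (evalT dD (nthW dX.lx l) (xF dD dX x))) dD.n) dD.L = true := by decide +kernel

set_option maxRecDepth 1000000 in
theorem tau_hab : allB (fun x => andB (Nat.beq (xF dD dX (T dD dE.iA x)) (T dD dTs.iTA (xF dD dX x))) (Nat.beq (xF dD dX (T dD dE.iB x)) (T dD dTs.iTB (xF dD dX x)))) dD.n = true := by decide +kernel

set_option maxRecDepth 1000000 in
theorem tau_hsift : siftChk dD dC.bs dC.wss (xF dD dX) = true := by decide +kernel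

set_option maxRecDepth 1000000 in
theorem tau_htw : allB (fun y => Nat.beq (evalT dD (nthW dX.tw y) dX.pt) y) dD.n = true := by decide +kernel

set_option maxRecDepth 1000000 in
theorem tau_hsg : allFix dD dX.pt dX.sg = true := by decide +kernel

set_option maxRecDepth 1000000 in
theorem tau_hmv : allB (fun y => orB (Nat.beq y dX.pt) (anyMove dD y dX.sg)) dD.n = true := by decide +kernel

theorem tauOK : TauOK dD dC dE dTs dX :=
  { hperm := tau_hperm, hlx := tau_hlx, hab := tau_hab, hsift := tau_hsift, hpt := by decide, htw := tau_htw,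
    hsg := tau_hsg, hmv := tau_hmv }

theorem hK0aux : ∀ k < 11, 0 < k → ∃ j < 11, ∃ k0 ∈ [1, 2], (k * 4 ^ j) % 11 = k0 % 11 := by
  decide

theorem hK0 : ∀ k, 0 < k → k < dE.p → ∃ j : ℕ, ∃ k0 ∈ dTs.K0, (k * dE.r ^ j) % dE.p = k0 % dE.p := by
  intro k h0 hp
  obtain ⟨j, -, k0, hk0, hj⟩ := hK0aux k hp h0
  exact ⟨j, k0, hk0, hj⟩

instance factP : Fact (Nat.Prime dE.p) := ⟨by norm_num [dE]⟩

theorem hp2 : ¬ dE.p ^ 2 ∣ 44352000 := by decide

end Cfsg.Agent.Helper9.HSO

end
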