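import Mathlib
import Cfsg.Agent.Helper9.LeechAct.Bridge
import Cfsg.Agent.Helper9.HSO.Data

set_option autoImplicit false
set_option maxRecDepth 100000

/-! Data of the bridge from the lattice to the tables for the group `hs`. -/

noncomputable section

namespace Cfsg.Agent.Helper9.HSO

open Cfsg.Agent.Helper9.OutG Cfsg.Agent.Helper9.LeechAct

/-- the words of the letters in automorphisms of the lattice. -/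
def dBrLws : List (List LLet) :=
  [[{ isXi := false, t := [1, 21, 2, 20, 7, 18, 15, 17, 5, 16, 14, 22, 10, 19, 3, 12, 23, 13, 8, 4, 9, 11, 6, 0], t' := [23, 0, 2, 14, 19, 8, 22, 4, 18, 20, 12, 21, 15, 17, 10, 6, 9, 7, 5, 13, 3, 1, 11, 16], m := 0x37bcfc },
    { isXi := true, t := [], t' := [], m := 0 },
    { isXi := false, t := [0, 4, 22, 18, 2, 5, 19, 12, 8, 20, 6, 14, 21, 23, 7, 17, 1, 10, 15, 3, 11, 9, 13, 16], t' := [0, 16, 4, 19, 1, 5, 10, 14, 8, 21, 17, 20, 7, 22, 11, 18, 23, 15, 3, 6, 9, 12, 2, 13], m := 0xd03c2f },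
    { isXi := true, t := [], t' := [], m := 0 },
    { isXi := false, t := [13, 10, 4, 11, 19, 15, 7, 8, 9, 17, 20, 2, 6, 3, 23, 5, 18, 12, 21, 14, 0, 22, 16, 1], t' := [20, 23, 11, 13, 2, 15, 12, 6, 7, 8, 1, 3, 17, 0, 19, 5, 22, 9, 16, 4, 10, 18, 21, 14], m := 0xbf0334 }],
   [{ isXi := false, t := [20, 23, 11, 13, 2, 15, 12, 6, 7, 8, 1, 3, 17, 0, 19, 5, 22, 9, 16, 4, 10, 18, 21, 14], t' := [13, 10, 4, 11, 19, 15, 7, 8, 9, 17, 20, 2, 6, 3, 23, 5, 18, 12, 21, 14, 0, 22, 16, 1], m := 0x45cf94 },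
    { isXi := true, t := [], t' := [], m := 0 },
    { isXi := false, t := [0, 16, 4, 19, 1, 5, 10, 14, 8, 21, 17, 20, 7, 22, 11, 18, 23, 15, 3, 6, 9, 12, 2, 13], t' := [0, 4, 22, 18, 2, 5, 19, 12, 8, 20, 6, 14, 21, 23, 7, 17, 1, 10, 15, 3, 11, 9, 13, 16], m := 0x5b22b5 },
    { isXi := true, t := [], t' := [], m := 0 },
    { isXi := false, t := [23, 0, 2, 14, 19, 8, 22, 4, 18, 20, 12, 21, 15, 17, 10, 6, 9, 7, 5, 13, 3, 1, 11, 16], t' := [1, 21, 2, 20, 7, 18, 15, 17, 5, 16, 14, 22, 10, 19, 3, 12, 23, 13, 8, 4, 9, 11, 6, 0], m := 0x6ad3fe }],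
   [{ isXi := false, t := [1, 13, 10, 14, 4, 20, 11, 8, 23, 0, 22, 2, 7, 3, 15, 9, 16, 6, 5, 17, 12, 21, 19, 18], t' := [9, 0, 11, 13, 4, 18, 17, 12, 7, 15, 2, 6, 20, 1, 3, 14, 16, 19, 23, 22, 5, 21, 10, 8], m := 0x163141 },
    { isXi := true, t := [], t' := [], m := 0 },
    { isXi := false, t := [8, 10, 15, 3, 12, 0, 16, 2, 19, 14, 23, 13, 5, 20, 7, 6, 18, 22, 1, 17, 4, 21, 11, 9], t' := [5, 18, 7, 3, 20, 12, 15, 14, 0, 23, 1, 22, 4, 11, 9, 2, 6, 19, 16, 8, 13, 21, 17, 10], m := 0x4761d5 },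
    { isXi := true, t := [], t' := [], m := 0 },
    { isXi := false, t := [23, 0, 2, 14, 19, 8, 22, 4, 18, 20, 12, 21, 15, 17, 10, 6, 9, 7, 5, 13, 3, 1, 11, 16], t' := [1, 21, 2, 20, 7, 18, 15, 17, 5, 16, 14, 22, 10, 19, 3, 12, 23, 13, 8, 4, 9, 11, 6, 0], m := 0x6ad3fe }],
   [{ isXi := false, t := [1, 21, 2, 20, 7, 18, 15, 17, 5, 16, 14, 22, 10, 19, 3, 12, 23, 13, 8, 4, 9, 11, 6, 0], t' := [23, 0, 2, 14, 19, 8, 22, 4, 18, 20, 12, 21, 15, 17, 10, 6, 9, 7, 5, 13, 3, 1, 11, 16], m := 0x37bcfc },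
    { isXi := true, t := [], t' := [], m := 0 },
    { isXi := false, t := [5, 18, 7, 3, 20, 12, 15, 14, 0, 23, 1, 22, 4, 11, 9, 2, 6, 19, 16, 8, 13, 21, 17, 10], t' := [8, 10, 15, 3, 12, 0, 16, 2, 19, 14, 23, 13, 5, 20, 7, 6, 18, 22, 1, 17, 4, 21, 11, 9], m := 0x1bcae1 },
    { isXi := true, t := [], t' := [], m := 0 },
    { isXi := false, t := [9, 0, 11, 13, 4, 18, 17, 12, 7, 15, 2, 6, 20, 1, 3, 14, 16, 19, 23, 22, 5, 21, 10, 8], t' := [1, 13, 10, 14, 4, 20, 11, 8, 23, 0, 22, 2, 7, 3, 15, 9, 16, 6, 5, 17, 12, 21, 19, 18], m := 0x9a02a2 }]]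

/-- the lists of coordinates of the points, shifted by 8. -/
def dBrPtsN : List (List ℕ) :=
  [[4, 8, 8, 8, 8, 8, 8, 8, 8, 8, 8, 8, 8, 8, 8, 8, 8, 8, 8, 8, 8, 8, 8, 4],
   [6, 6, 6, 6, 8, 6, 8, 8, 8, 8, 8, 8, 8, 8, 6, 8, 8, 6, 8, 8, 8, 8, 8, 6],
   [6, 6, 6, 8, 6, 8, 8, 8, 8, 8, 8, 8, 8, 6, 8, 8, 6, 8, 8, 8, 8, 8, 6, 6],
   [6, 6, 6, 8, 8, 8, 6, 6, 8, 8, 8, 8, 8, 8, 8, 8, 8, 8, 8, 6, 8, 6, 8, 6],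
   [6, 6, 6, 8, 8, 8, 8, 8, 6, 8, 8, 6, 6, 8, 8, 8, 8, 8, 6, 8, 8, 8, 8, 6],
   [6, 6, 6, 8, 8, 8, 8, 8, 8, 6, 6, 8, 8, 8, 8, 6, 8, 8, 8, 8, 6, 8, 8, 6],
   [6, 6, 8, 6, 6, 8, 8, 8, 8, 8, 8, 6, 8, 8, 8, 8, 8, 8, 8, 6, 6, 8, 8, 6],
   [6, 6, 8, 6, 8, 8, 6, 8, 6, 8, 6, 8, 8, 6, 8, 8, 8, 8, 8, 8, 8, 8, 8, 6],
   [6, 6, 8, 6, 8, 8, 8, 6, 8, 6, 8, 8, 8, 8, 8, 8, 6, 8, 6, 8, 8, 8, 8, 6],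
   [6, 6, 8, 6, 8, 8, 8, 8, 8, 8, 8, 8, 6, 8, 8, 6, 8, 8, 8, 8, 8, 6, 6, 6],
   [6, 6, 8, 8, 6, 6, 8, 6, 6, 8, 8, 8, 8, 8, 8, 6, 8, 8, 8, 8, 8, 8, 8, 6],
   [6, 6, 8, 8, 6, 8, 6, 8, 8, 6, 8, 8, 6, 8, 8, 8, 8, 6, 8, 8, 8, 8, 8, 6],
   [6, 6, 8, 8, 6, 8, 8, 8, 8, 8, 6, 8, 8, 8, 6, 8, 8, 8, 6, 8, 8, 6, 8, 6],
   [6, 6, 8, 8, 8, 6, 6, 8, 8, 8, 8, 8, 8, 8, 8, 8, 8, 8, 6, 8, 6, 8, 6, 6],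
   [6, 6, 8, 8, 8, 6, 8, 8, 8, 6, 8, 6, 8, 6, 8, 8, 8, 8, 8, 8, 8, 6, 8, 6],
   [6, 6, 8, 8, 8, 6, 8, 8, 8, 8, 6, 8, 6, 8, 8, 8, 6, 8, 8, 6, 8, 8, 8, 6],
   [6, 6, 8, 8, 8, 8, 6, 8, 8, 8, 8, 6, 8, 8, 6, 6, 6, 8, 8, 8, 8, 8, 8, 6],
   [6, 6, 8, 8, 8, 8, 8, 6, 8, 8, 6, 6, 8, 8, 8, 8, 8, 6, 8, 8, 8, 8, 6, 6],
   [6, 6, 8, 8, 8, 8, 8, 6, 8, 8, 8, 8, 6, 6, 6, 8, 8, 8, 8, 8, 6, 8, 8, 6],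
   [6, 6, 8, 8, 8, 8, 8, 8, 6, 6, 8, 8, 8, 8, 6, 8, 8, 8, 8, 6, 8, 8, 6, 6],
   [6, 6, 8, 8, 8, 8, 8, 8, 6, 8, 8, 8, 8, 8, 8, 8, 6, 6, 8, 8, 6, 6, 8, 6],
   [6, 6, 8, 8, 8, 8, 8, 8, 8, 8, 8, 8, 8, 6, 8, 6, 8, 6, 6, 6, 8, 8, 8, 6],
   [6, 8, 6, 6, 6, 8, 8, 8, 6, 6, 8, 8, 8, 8, 8, 8, 8, 8, 8, 8, 8, 6, 8, 6],
   [6, 8, 6, 6, 8, 8, 6, 8, 8, 8, 8, 8, 6, 8, 8, 8, 6, 8, 8, 8, 6, 8, 8, 6],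
   [6, 8, 6, 6, 8, 8, 8, 6, 8, 8, 8, 6, 8, 6, 8, 6, 8, 8, 8, 8, 8, 8, 8, 6],
   [6, 8, 6, 6, 8, 8, 8, 8, 8, 8, 6, 8, 8, 8, 8, 8, 8, 8, 6, 6, 8, 8, 6, 6],
   [6, 8, 6, 8, 6, 6, 6, 8, 8, 8, 6, 6, 8, 8, 8, 8, 8, 8, 8, 8, 8, 8, 8, 6],
   [6, 8, 6, 8, 6, 8, 8, 6, 8, 8, 8, 8, 8, 8, 8, 8, 8, 6, 6, 8, 6, 8, 8, 6],
   [6, 8, 6, 8, 6, 8, 8, 8, 8, 8, 8, 8, 6, 8, 6, 6, 8, 8, 8, 6, 8, 8, 8, 6],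
   [6, 8, 6, 8, 8, 6, 8, 6, 8, 6, 8, 8, 6, 8, 8, 8, 8, 8, 8, 8, 8, 8, 6, 6],
   [6, 8, 6, 8, 8, 6, 8, 8, 6, 8, 8, 8, 8, 6, 8, 8, 8, 8, 8, 6, 6, 8, 8, 6],
   [6, 8, 6, 8, 8, 6, 8, 8, 8, 8, 8, 8, 8, 8, 8, 6, 6, 8, 6, 8, 8, 6, 8, 6],
   [6, 8, 6, 8, 8, 8, 6, 8, 6, 8, 8, 8, 8, 8, 8, 6, 8, 6, 8, 8, 8, 8, 6, 6],
   [6, 8, 6, 8, 8, 8, 6, 8, 8, 6, 8, 8, 8, 6, 6, 8, 8, 8, 6, 8, 8, 8, 8, 6],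
   [6, 8, 6, 8, 8, 8, 8, 6, 6, 8, 6, 8, 8, 8, 6, 8, 6, 8, 8, 8, 8, 8, 8, 6],
   [6, 8, 6, 8, 8, 8, 8, 8, 8, 6, 8, 6, 8, 8, 8, 8, 6, 6, 8, 6, 8, 8, 8, 6],
   [6, 8, 6, 8, 8, 8, 8, 8, 8, 8, 6, 8, 6, 6, 8, 8, 8, 6, 8, 8, 8, 6, 8, 6],
   [6, 8, 6, 8, 8, 8, 8, 8, 8, 8, 8, 6, 8, 8, 6, 8, 8, 8, 8, 8, 6, 6, 6, 6],
   [6, 8, 8, 6, 6, 6, 8, 8, 8, 8, 8, 8, 6, 6, 8, 8, 8, 8, 6, 8, 8, 8, 8, 6],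
   [6, 8, 8, 6, 6, 8, 6, 6, 8, 8, 8, 8, 8, 8, 6, 8, 8, 8, 8, 8, 8, 8, 6, 6],
   [6, 8, 8, 6, 6, 8, 8, 8, 8, 8, 6, 8, 8, 8, 8, 6, 6, 6, 8, 8, 8, 8, 8, 6],
   [6, 8, 8, 6, 8, 6, 6, 8, 8, 6, 8, 8, 8, 8, 8, 6, 8, 8, 8, 6, 8, 8, 8, 6],
   [6, 8, 8, 6, 8, 6, 8, 6, 8, 8, 6, 8, 8, 8, 8, 8, 8, 8, 8, 8, 6, 6, 8, 6],
   [6, 8, 8, 6, 8, 6, 8, 8, 6, 8, 8, 6, 8, 8, 8, 8, 6, 8, 8, 8, 8, 8, 6, 6],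
   [6, 8, 8, 6, 8, 8, 6, 8, 8, 8, 8, 6, 8, 8, 8, 8, 8, 6, 6, 8, 8, 6, 8, 6],
   [6, 8, 8, 6, 8, 8, 8, 6, 6, 8, 8, 8, 6, 8, 8, 8, 8, 6, 8, 6, 8, 8, 8, 6],
   [6, 8, 8, 6, 8, 8, 8, 8, 6, 8, 8, 8, 8, 8, 6, 6, 8, 8, 6, 8, 6, 8, 8, 6],
   [6, 8, 8, 6, 8, 8, 8, 8, 8, 6, 6, 6, 6, 8, 6, 8, 8, 8, 8, 8, 8, 8, 8, 6],
   [6, 8, 8, 6, 8, 8, 8, 8, 8, 6, 8, 8, 8, 6, 8, 8, 8, 6, 8, 8, 6, 8, 6, 6],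
   [6, 8, 8, 6, 8, 8, 8, 8, 8, 8, 8, 8, 8, 6, 6, 8, 6, 8, 8, 6, 8, 6, 8, 6],
   [6, 8, 8, 8, 6, 6, 8, 8, 8, 6, 8, 8, 8, 8, 6, 8, 6, 8, 8, 8, 6, 8, 8, 6],
   [6, 8, 8, 8, 6, 6, 8, 8, 8, 8, 8, 8, 8, 8, 8, 8, 8, 6, 8, 6, 8, 6, 6, 6],
   [6, 8, 8, 8, 6, 8, 6, 8, 6, 8, 8, 8, 8, 8, 8, 8, 6, 8, 6, 6, 8, 8, 8, 6],
   [6, 8, 8, 8, 6, 8, 6, 8, 8, 8, 8, 8, 8, 6, 8, 6, 8, 8, 8, 8, 6, 6, 8, 6],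
   [6, 8, 8, 8, 6, 8, 8, 6, 8, 6, 6, 8, 8, 6, 8, 8, 8, 8, 8, 6, 8, 8, 8, 6],
   [6, 8, 8, 8, 6, 8, 8, 6, 8, 8, 8, 6, 6, 8, 8, 8, 6, 8, 8, 8, 8, 6, 8, 6],
   [6, 8, 8, 8, 6, 8, 8, 8, 6, 8, 6, 8, 6, 8, 8, 8, 8, 8, 8, 8, 6, 8, 6, 6],
   [6, 8, 8, 8, 6, 8, 8, 8, 6, 8, 8, 6, 8, 6, 6, 8, 8, 6, 8, 8, 8, 8, 8, 6],
   [6, 8, 8, 8, 6, 8, 8, 8, 8, 6, 8, 6, 8, 8, 8, 6, 8, 8, 6, 8, 8, 8, 6, 6],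
   [6, 8, 8, 8, 8, 6, 6, 6, 8, 8, 8, 8, 8, 6, 8, 8, 6, 6, 8, 8, 8, 8, 8, 6],
   [6, 8, 8, 8, 8, 6, 6, 8, 6, 8, 8, 8, 6, 8, 6, 8, 8, 8, 8, 8, 8, 6, 8, 6],
   [6, 8, 8, 8, 8, 6, 8, 6, 8, 8, 8, 6, 8, 8, 6, 8, 8, 8, 6, 6, 8, 8, 8, 6],
   [6, 8, 8, 8, 8, 6, 8, 8, 6, 6, 6, 8, 8, 8, 8, 8, 8, 6, 6, 8, 8, 8, 8, 6],
   [6, 8, 8, 8, 8, 6, 8, 8, 8, 8, 6, 8, 8, 6, 6, 6, 8, 8, 8, 8, 8, 8, 6, 6],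
   [6, 8, 8, 8, 8, 6, 8, 8, 8, 8, 8, 6, 6, 8, 8, 6, 8, 6, 8, 8, 6, 8, 8, 6],
   [6, 8, 8, 8, 8, 8, 6, 6, 6, 6, 8, 6, 8, 8, 8, 8, 8, 8, 8, 8, 6, 8, 8, 6],
   [6, 8, 8, 8, 8, 8, 6, 6, 8, 8, 6, 8, 6, 8, 8, 6, 8, 8, 6, 8, 8, 8, 8, 6],
   [6, 8, 8, 8, 8, 8, 6, 8, 8, 6, 6, 8, 8, 8, 8, 8, 6, 8, 8, 8, 8, 6, 6, 6],
   [6, 8, 8, 8, 8, 8, 6, 8, 8, 8, 6, 8, 8, 8, 6, 8, 8, 6, 8, 6, 6, 8, 8, 6],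
   [6, 8, 8, 8, 8, 8, 6, 8, 8, 8, 8, 6, 6, 6, 8, 8, 8, 8, 8, 6, 8, 8, 6, 6],
   [6, 8, 8, 8, 8, 8, 8, 6, 6, 8, 8, 8, 8, 6, 8, 8, 8, 8, 6, 8, 8, 6, 6, 6],
   [6, 8, 8, 8, 8, 8, 8, 6, 8, 6, 8, 8, 8, 8, 6, 6, 8, 6, 8, 8, 8, 6, 8, 6],
   [6, 8, 8, 8, 8, 8, 8, 6, 8, 8, 8, 8, 8, 8, 8, 6, 6, 8, 8, 6, 6, 8, 6, 6],
   [6, 8, 8, 8, 8, 8, 8, 8, 6, 6, 8, 8, 6, 6, 8, 6, 6, 8, 8, 8, 8, 8, 8, 6],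
   [6, 8, 8, 8, 8, 8, 8, 8, 6, 8, 6, 6, 8, 8, 8, 6, 8, 8, 8, 6, 8, 6, 8, 6],
   [6, 8, 8, 8, 8, 8, 8, 8, 8, 6, 8, 8, 6, 8, 8, 8, 8, 8, 6, 6, 6, 6, 8, 6],
   [6, 8, 8, 8, 8, 8, 8, 8, 8, 8, 6, 6, 8, 6, 8, 8, 6, 8, 6, 8, 6, 8, 8, 6],
   [6, 8, 8, 8, 8, 8, 8, 8, 8, 8, 8, 8, 6, 8, 6, 8, 6, 6, 6, 8, 8, 8, 6, 6],
   [7, 7, 7, 7, 7, 7, 7, 7, 7, 7, 7, 7, 7, 7, 7, 7, 7, 7, 7, 7, 7, 7, 11, 7],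
   [7, 7, 7, 7, 7, 7, 7, 7, 7, 7, 7, 7, 7, 7, 7, 7, 7, 7, 7, 7, 7, 11, 7, 7],
   [7, 7, 7, 7, 7, 7, 7, 7, 7, 7, 7, 7, 7, 7, 7, 7, 7, 7, 7, 7, 11, 7, 7, 7],
   [7, 7, 7, 7, 7, 7, 7, 7, 7, 7, 7, 7, 7, 7, 7, 7, 7, 7, 7, 11, 7, 7, 7, 7],
   [7, 7, 7, 7, 7, 7, 7, 7, 7, 7, 7, 7, 7, 7, 7, 7, 7, 7, 11, 7, 7, 7, 7, 7],
   [7, 7, 7, 7, 7, 7, 7, 7, 7, 7, 7, 7, 7, 7, 7, 7, 7, 11, 7, 7, 7, 7, 7, 7],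
   [7, 7, 7, 7, 7, 7, 7, 7, 7, 7, 7, 7, 7, 7, 7, 7, 11, 7, 7, 7, 7, 7, 7, 7],
   [7, 7, 7, 7, 7, 7, 7, 7, 7, 7, 7, 7, 7, 7, 7, 11, 7, 7, 7, 7, 7, 7, 7, 7],
   [7, 7, 7, 7, 7, 7, 7, 7, 7, 7, 7, 7, 7, 7, 11, 7, 7, 7, 7, 7, 7, 7, 7, 7],
   [7, 7, 7, 7, 7, 7, 7, 7, 7, 7, 7, 7, 7, 11, 7, 7, 7, 7, 7, 7, 7, 7, 7, 7],
   [7, 7, 7, 7, 7, 7, 7, 7, 7, 7, 7, 7, 11, 7, 7, 7, 7, 7, 7, 7, 7, 7, 7, 7],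
   [7, 7, 7, 7, 7, 7, 7, 7, 7, 7, 7, 11, 7, 7, 7, 7, 7, 7, 7, 7, 7, 7, 7, 7],
   [7, 7, 7, 7, 7, 7, 7, 7, 7, 7, 11, 7, 7, 7, 7, 7, 7, 7, 7, 7, 7, 7, 7, 7],
   [7, 7, 7, 7, 7, 7, 7, 7, 7, 11, 7, 7, 7, 7, 7, 7, 7, 7, 7, 7, 7, 7, 7, 7],
   [7, 7, 7, 7, 7, 7, 7, 7, 11, 7, 7, 7, 7, 7, 7, 7, 7, 7, 7, 7, 7, 7, 7, 7],
   [7, 7, 7, 7, 7, 7, 7, 11, 7, 7, 7, 7, 7, 7, 7, 7, 7, 7, 7, 7, 7, 7, 7, 7],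
   [7, 7, 7, 7, 7, 7, 11, 7, 7, 7, 7, 7, 7, 7, 7, 7, 7, 7, 7, 7, 7, 7, 7, 7],
   [7, 7, 7, 7, 7, 11, 7, 7, 7, 7, 7, 7, 7, 7, 7, 7, 7, 7, 7, 7, 7, 7, 7, 7],
   [7, 7, 7, 7, 11, 7, 7, 7, 7, 7, 7, 7, 7, 7, 7, 7, 7, 7, 7, 7, 7, 7, 7, 7],
   [7, 7, 7, 11, 7, 7, 7, 7, 7, 7, 7, 7, 7, 7, 7, 7, 7, 7, 7, 7, 7, 7, 7, 7],
   [7, 7, 11, 7, 7, 7, 7, 7, 7, 7, 7, 7, 7, 7, 7, 7, 7, 7, 7, 7, 7, 7, 7, 7],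
   [7, 11, 7, 7, 7, 7, 7, 7, 7, 7, 7, 7, 7, 7, 7, 7, 7, 7, 7, 7, 7, 7, 7, 7]]

/-- the lists of coordinates of the points. -/
def dBrPts : List (List ℤ) := dBrPtsN.map (fun l => l.map (fun a => Int.ofNat a - 8))

/-- the bridge. -/
def dBr : BrD :=
  { lws := dBrLws, pts := dBrPts, rt := 0, parJ := [0, 29, 3, 0, 35, 31, 74, 18, 97, 20, 36, 1, 67, 42, 9, 92, 75, 28, 59, 36, 70, 55, 4, 30, 28, 37, 25, 39, 35, 0, 54, 29, 27, 34, 5, 29, 2, 0, 96, 70, 89, 59, 2, 75, 39, 1, 99, 4, 90, 18, 25, 9, 42, 70, 26, 25, 88, 45, 37, 3, 21, 26, 87, 42, 41, 52, 50, 31, 39, 49, 37, 10, 31, 5, 58, 2, 83, 87, 7, 99, 11, 89, 21, 41, 43, 7, 50, 58, 99, 59, 45, 54, 43, 86, 64, 52, 50, 74, 91, 58], parL := [0,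 1, 0, 0, 1, 0, 0, 3, 1, 2, 3, 2, 0, 0, 0, 1, 0, 3, 1, 2, 0, 0, 1, 0, 0, 1, 1, 2, 0, 2, 2, 0, 0, 1, 3, 2, 0, 1, 1, 1, 3, 3, 3, 1, 3, 3, 0, 2, 3, 1, 2, 1, 3, 3, 2, 3, 0, 1, 2, 3, 2, 3, 1, 1, 1, 1, 0, 2, 1, 1, 3, 1, 3, 2, 0, 2, 0, 3, 3, 1, 0, 0, 0, 0, 1, 0, 2, 1, 2, 0, 0, 0, 2, 0, 1, 0, 1, 3, 3, 2], dp := [0, 2, 2, 1, 3, 3, 4, 4, 5, 4, 4, 3, 4, 4, 5, 6, 4, 4, 3, 4, 3, 4, 4, 6, 4, 2, 3, 4, 3, 1, 5, 2, 5, 5, 4, 2, 3, 1, 5, 3, 4, 3, 3, 4, 4, 3, 4, 4, 5, 4, 3, 5, 4, 3, 4, 3, 5, 4, 2, 2, 5, 4, 4, 4, 4, 5, 4, 3, 4, 5, 2, 5, 3, 4, 3, 3, 5, 4, 5, 4, 4, 4, 5, 4, 5, 5, 4, 3, 4, 3, 4, 5, 5, 5, 5, 5, 4, 4, 6, 3] }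

/-- the lists of coordinates of the fixed vectors. -/
def dFix : List (List ℤ) :=
  [[-1, -1, -1, -1, -1, -1, -1, -1, -1, -1, -1, -1, -1, -1, -1, -1, -1, -1, -1, -1, -1, -1, -1, -5], [-4, 0, 0, 0, 0, 0, 0, 0, 0, 0, 0, 0, 0, 0, 0, 0, 0, 0, 0, 0, 0, 0, 0, 4]]

end Cfsg.Agent.Helper9.HSO

end
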