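import Mathlib
import Cfsg.Agent.Helper9.HSO.Chk
import Cfsg.Agent.Helper9.HSO.BrChk
import Cfsg.Agent.Helper9.LeechAct.Stab
import Cfsg.Agent.Helper9.Leech.HSSimple3
import Cfsg.Agent.Helper9.HeO.Abs

set_option autoImplicit false

/-! The outer automorphism group of the stabilizer of the two vectors has two elements. -/

noncomputable section

namespace Cfsg.Agent.Helper9.HSO

open Cfsg Cfsg.Agent.Helper9.Golay Cfsg.Agent.Helper9.Leech Cfsg.Agent.Helper9.OutG
open Cfsg.Agent.Helper9.LeechAct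

theorem mem_HS_iff (g : Equiv.Perm ↥leechLattice) :
    g ∈ Spor.HS ↔ g ∈ Co0 ∧ g Spor.leechV = Spor.leechV ∧ g Spor.leechU' = Spor.leechU' := by
  unfold Spor.HS Spor.Co3
  rw [Subgroup.mem_inf, Subgroup.mem_inf, MulAction.mem_stabilizer_iff,
    MulAction.mem_stabilizer_iff]
  exact ⟨fun h => ⟨h.1.1, h.1.2, h.2⟩, fun h => ⟨⟨h.1, h.2.1⟩, h.2.2⟩⟩

theorem coeV : ((Spor.leechV : ↥leechLattice) : GolayPt → ℤ) = toVec (dFix.getD 0 []) := by
  funext p
  revert p
  decide

theorem coeU' : ((Spor.leechU' : ↥leechLattice) : GolayPt → ℤ) = toVec (dFix.getD 1 []) := by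
  funext p
  revert p
  decide

theorem normV : sqNorm ((Spor.leechV : ↥leechLattice) : GolayPt → ℤ) = 48 := by decide

theorem normW : sqNorm (((0 - Spor.leechV - Spor.leechU' : ↥leechLattice) : ↥leechLattice) :
    GolayPt → ℤ) = 48 := by decide

theorem dotVW : dotInt ((Spor.leechV : ↥leechLattice) : GolayPt → ℤ)
    (((0 - Spor.leechV - Spor.leechU' : ↥leechLattice) : ↥leechLattice) : GolayPt → ℤ) = -32 := by
  decide

theorem hs_fin : Finite ↥Spor.HS ∧ Nat.card ↥Spor.HS ≤ 44352000 :=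
  finite_card_le (by norm_num)
    (hs_simple_card Spor.leechV (0 - Spor.leechV - Spor.leechU') normV normW dotVW).2
    (joint_mem Spor.leechV Spor.leechU' (fun g hg => (mem_HS_iff g).1 hg))

theorem out_HS : Nat.card (Cfsg.Out ↥Spor.HS) = 2 := by
  have := hs_fin.1
  have hx0 : (((-Spor.leechU : ↥leechLattice) : ↥leechLattice) : GolayPt → ℤ) =
      toVec (nthZ dBr.pts dBr.rt) := by
    have e : nthZ dBr.pts dBr.rt = [-4, 0, 0, 0, 0, 0, 0, 0, 0, 0, 0, 0, 0, 0, 0, 0, 0, 0, 0, 0, 0,
      0, 0, -4] := by decide +kernel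
    rw [e]
    funext p
    revert p
    decide
  obtain ⟨⟨e⟩, hN⟩ := bridge core brOK Spor.HS hs_fin.2
    [(Spor.leechV, dFix.getD 0 []), (Spor.leechU', dFix.getD 1 [])]
    (by
      intro f hf
      simp only [List.mem_cons, List.not_mem_nil, or_false] at hf
      rcases hf with rfl | rfl
      · exact coeV
      · exact coeU')
    (by decide)
    (by
      intro f hf
      simp only [List.mem_cons, List.not_mem_nil, or_false] at hf
      rcases hf with rfl | rfl <;> decide)
    (by
      intro g hg hfx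
      rw [mem_HS_iff]
      exact ⟨hg, hfx (Spor.leechV, dFix.getD 0 []) List.mem_cons_self,
        hfx (Spor.leechU', dFix.getD 1 []) (List.mem_cons_of_mem _ List.mem_cons_self)⟩)
    (-Spor.leechU) hx0 br_len
  rw [Cfsg.Agent.Helper9.HeO.card_out_congr e]
  exact out_two core hN genOK sylOK (by decide) clsOK (by decide) tstOK hp2 hK0 tauOK

end Cfsg.Agent.Helper9.HSO

end
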